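import Groth.Agent.Gaga.H986.Sky
import Mathlib.RingTheory.IsTensorProduct
import Mathlib.Algebra.Category.ModuleCat.Sheaf.PushforwardContinuous
import Mathlib.RingTheory.RingHom.Flat
import Mathlib.LinearAlgebra.TensorProduct.RightExactness

/-!
# Stalks of the inverse image of sheaves of modules along a morphism of ringed spaces

`f : T1 ⟶ T` continuous, `R`, `R1` sheaves of commutative rings on `T`, `T1`,
`φ : R ⟶ f_* R1` (in the `RingCat`-form used by Mathlib's `SheafOfModules.pushforward`), and ANY
left adjoint `L` of `push φ = SheafOfModules.pushforward φ`, `adj : L ⊣ push φ`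
(for example `An.analytify X`, or the left adjoint of `An.anPushMap f`).

* `cm φ V : O R V →+* O R1 (pre f V)`, `stR φ y : StO R (f y) →+* StO R1 y`;
* `us adj V : Sec M V →+ Sec (L.obj M) (pre f V)`: unit sections;
* `can adj M y : St M (f y) →+ St (L.obj M) y`, semilinear;
* `isBaseChange_can`: `(L M)_y = R1_y ⊗_{R_{f y}} M_{f y}`.
-/

set_option autoImplicit false

open CategoryTheory TopologicalSpace Opposite

noncomputable section

namespace Groth.Agent.Gaga.H986.Pull

open Groth.Agent.Gaga.H975.ModSec Groth.Agent.Gaga.H986.Stalk Groth.Agent.Gaga.H986.Sky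

variable {T T1 : TopCat.{0}}

/-- The preimage of an open set. -/
abbrev pre (f : T1 ⟶ T) (V : Opens T) : Opens T1 := (Opens.map f).obj V

theorem pre_mono (f : T1 ⟶ T) {V W : Opens T} (h : W ≤ V) : pre f W ≤ pre f V :=
  fun _ hx => h hx

variable {f : T1 ⟶ T} {R : TopCat.Sheaf CommRingCat.{0} T} {R1 : TopCat.Sheaf CommRingCat.{0} T1}
  [(Opens.map f).IsContinuous (Opens.grothendieckTopology T) (Opens.grothendieckTopology T1)]
  (φ : ringSheaf R ⟶ ((Opens.map f).sheafPushforwardContinuous RingCat.{0}
    (Opens.grothendieckTopology T) (Opens.grothendieckTopology T1)).obj (ringSheaf R1))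

/-- The comorphism on sections. -/
def cm (V : Opens T) : O R V →+* O R1 (pre f V) := (φ.hom.app (op V)).hom

theorem cm_resO {V W : Opens T} (h : W ≤ V) (r : O R V) :
    cm φ W (resO h r) = resO (pre_mono f h) (cm φ V r) :=
  congr($(φ.hom.naturality (homOfLE h).op) r)

/-- The comorphism on stalks. -/
def stR (y : T1) : StO R (f y) →+* StO R1 y :=
  (Limits.colimit.desc ((OpenNhds.inclusion (f y)).op ⋙ R.obj)
    (Limits.Cocone.mk (CommRingCat.of (StO R1 y))
      { app := fun U => CommRingCat.ofHom ((gmO R1 y (pre f U.unop.1) U.unop.2).comp (cm φ U.unop.1))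
        naturality := fun U V i => by
          ext s
          change gmO R1 y (pre f V.unop.1) _ (cm φ V.unop.1 (resO i.unop.le s)) =
            gmO R1 y (pre f U.unop.1) _ (cm φ U.unop.1 s)
          rw [cm_resO, gmO_resO] })).hom

theorem stR_gmO (y : T1) (V : Opens T) (hy : f y ∈ V) (r : O R V) :
    stR φ y (gmO R (f y) V hy r) = gmO R1 y (pre f V) hy (cm φ V r) := by
  have h := Limits.colimit.ι_desc (F := (OpenNhds.inclusion (f y)).op ⋙ R.obj)
    (Limits.Cocone.mk (CommRingCat.of (StO R1 y))
      { app := fun U => CommRingCat.ofHom ((gmO R1 y (pre f U.unop.1) U.unop.2).comp (cm φ U.unop.1))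
        naturality := fun U V i => by
          ext s
          change gmO R1 y (pre f V.unop.1) _ (cm φ V.unop.1 (resO i.unop.le s)) =
            gmO R1 y (pre f U.unop.1) _ (cm φ U.unop.1 s)
          rw [cm_resO, gmO_resO] }) (op ⟨V, hy⟩)
  exact ConcreteCategory.congr_hom h r

/-- The direct image. -/
abbrev push : Mod R1 ⥤ Mod R := SheafOfModules.pushforward φ

/-- Sections of the direct image. -/
def ofPush {N : Mod R1} {V : Opens T} : Sec ((push φ).obj N) V →+ Sec N (pre f V) where
  toFun s := s
  map_zero' := rfl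
  map_add' _ _ := rfl

/-- Sections of the direct image. -/
def toPush {N : Mod R1} {V : Opens T} : Sec N (pre f V) →+ Sec ((push φ).obj N) V where
  toFun s := s
  map_zero' := rfl
  map_add' _ _ := rfl

@[simp]
theorem ofPush_toPush {N : Mod R1} {V : Opens T} (s : Sec N (pre f V)) :
    ofPush φ (toPush φ s) = s := rfl

@[simp]
theorem toPush_ofPush {N : Mod R1} {V : Opens T} (s : Sec ((push φ).obj N) V) :
    toPush φ (ofPush φ s) = s := rfl

theorem ofPush_smul {N : Mod R1} {V : Opens T} (r : O R V) (s : Sec ((push φ).obj N) V) :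
    ofPush φ (r • s) = cm φ V r • ofPush φ s := rfl

theorem ofPush_res {N : Mod R1} {V W : Opens T} (h : W ≤ V) (s : Sec ((push φ).obj N) V) :
    ofPush φ (res _ h s) = res N (pre_mono f h) (ofPush φ s) := rfl

theorem ofPush_app {N N' : Mod R1} (g : N ⟶ N') {V : Opens T} (s : Sec ((push φ).obj N) V) :
    ofPush φ (app ((push φ).map g) V s) = app g (pre f V) (ofPush φ s) := rfl

variable {φ} {L : Mod R ⥤ Mod R1} (adj : L ⊣ push φ)

/-- Unit sections. -/
def us {M : Mod R} (V : Opens T) : Sec M V →+ Sec (L.obj M) (pre f V) :=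
  (ofPush φ).comp (app (adj.unit.app M) V).toAddMonoidHom

theorem us_apply {M : Mod R} (V : Opens T) (m : Sec M V) :
    us adj V m = ofPush φ (app (adj.unit.app M) V m) := rfl

theorem us_smul {M : Mod R} (V : Opens T) (r : O R V) (m : Sec M V) :
    us adj V (r • m) = cm φ V r • us adj V m := by
  rw [us_apply, map_smul, ofPush_smul]; rfl

theorem us_res {M : Mod R} {V W : Opens T} (h : W ≤ V) (m : Sec M V) :
    us adj W (res M h m) = res _ (pre_mono f h) (us adj V m) :=
  congrArg (ofPush φ) (app_res (adj.unit.app M) h m)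

theorem app_map_us {M N : Mod R} (g : M ⟶ N) (V : Opens T) (m : Sec M V) :
    app (L.map g) (pre f V) (us adj V m) = us adj V (app g V m) := by
  have h := adj.unit.naturality g
  exact congrArg (fun k : M ⟶ (push φ).obj (L.obj N) => ofPush φ (app k V m)) h.symm

/-- The morphism `L M ⟶ P` attached to `g : M ⟶ push P`. -/
def lft {M : Mod R} {P : Mod R1} (g : M ⟶ (push φ).obj P) : L.obj M ⟶ P :=
  (adj.homEquiv M P).symm g

theorem app_lft_us {M : Mod R} {P : Mod R1} (g : M ⟶ (push φ).obj P) (V : Opens T) (m : Sec M V) :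
    app (lft adj g) (pre f V) (us adj V m) = ofPush φ (app g V m) := by
  have h : adj.unit.app M ≫ (push φ).map (lft adj g) = g :=
    (adj.homEquiv_unit (f := lft adj g)).symm.trans ((adj.homEquiv M P).apply_symm_apply g)
  exact congrArg (fun k : M ⟶ (push φ).obj P => ofPush φ (app k V m)) h

include adj in
theorem hom_ext_us {M : Mod R} {P : Mod R1} {g g' : L.obj M ⟶ P}
    (h : ∀ (V : Opens T) (m : Sec M V), app g (pre f V) (us adj V m) = app g' (pre f V) (us adj V m)) :
    g = g' := by
  apply (adj.homEquiv M P).injective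
  refine (adj.homEquiv_unit (f := g)).trans (Eq.trans ?_ (adj.homEquiv_unit (f := g')).symm)
  exact hom_ext fun V m => h V m

/-- The canonical additive map `M_{f y} → (L M)_y`. -/
def can (M : Mod R) (y : T1) : St M (f y) →+ St (L.obj M) y :=
  descAdd M (f y) (St (L.obj M) y) (fun V hy => (gm (L.obj M) y (pre f V) hy).comp (us adj V))
    (fun V W h hy s => by
      change gm (L.obj M) y (pre f W) hy (us adj W (res M h s)) =
        gm (L.obj M) y (pre f V) (h hy) (us adj V s)
      rw [us_res, gm_res])

theorem can_gm (M : Mod R) (y : T1) (V : Opens T) (hy : f y ∈ V) (s : Sec M V) :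
    can adj M y (gm M (f y) V hy s) = gm (L.obj M) y (pre f V) hy (us adj V s) :=
  descAdd_gm M (f y) _ _ _ V hy s

theorem can_smul (M : Mod R) (y : T1) (r : StO R (f y)) (t : St M (f y)) :
    can adj M y (r • t) = stR φ y r • can adj M y t := by
  obtain ⟨V, hV, r, t, rfl, rfl⟩ := exists_common M (f y) r t
  rw [← gm_smul, can_gm, can_gm, us_smul, gm_smul, stR_gmO]

/-- Naturality of the canonical map. -/
theorem stMap_can {M N : Mod R} (g : M ⟶ N) (y : T1) (t : St M (f y)) :
    stMap (L.map g) y (can adj M y t) = can adj N y (stMap g (f y) t) := by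
  obtain ⟨V, hV, s, rfl⟩ := exists_gm M (f y) t
  rw [can_gm, stMap_gm, stMap_gm, can_gm, app_map_us]

section Universal

variable {y : T1} {Q : Type} [AddCommGroup Q] [Module (StO R1 y) Q]

variable (φ) in
/-- The morphism `M ⟶ push (sky y Q)` attached to a semilinear map out of `M_{f y}`. -/
def toPushSky {M : Mod R} (g : St M (f y) →+ Q)
    (hg : ∀ (r : StO R (f y)) (t : St M (f y)), g (r • t) = stR φ y r • g t) :
    M ⟶ (push φ).obj (sky R1 y Q) :=
  homMk (fun V => (toPush φ).comp
      (AddMonoidHom.mk' (fun s => (fun h => g (gm M (f y) V h.down s) : SSec y Q (pre f V)))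
      (fun a b => funext fun h => by
        change g (gm M (f y) V h.down (a + b)) = g (gm M (f y) V h.down a) + g (gm M (f y) V h.down b)
        rw [map_add, map_add]) : Sec M V →+ SSec y Q (pre f V)))
    (fun V r m => (ext_val fun hx => by
      change g (gm M (f y) V hx (r • m)) = gmO R1 y (pre f V) hx (cm φ V r) • g (gm M (f y) V hx m)
      rw [gm_smul, hg, stR_gmO] : (_ : Sec (sky R1 y Q) (pre f V)) = _))
    (fun V W h m => (ext_val fun hx => by
      change g (gm M (f y) W hx (res M h m)) = g (gm M (f y) V (h hx) m)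
      rw [gm_res] : (_ : Sec (sky R1 y Q) (pre f W)) = _))

theorem val_app_toPushSky {M : Mod R} (g : St M (f y) →+ Q)
    (hg : ∀ (r : StO R (f y)) (t : St M (f y)), g (r • t) = stR φ y r • g t)
    (V : Opens T) (hy : y ∈ pre f V) (s : Sec M V) :
    val hy (ofPush φ (app (toPushSky φ g hg) V s)) = g (gm M (f y) V hy s) := rfl

/-- The linear map out of `(L M)_y` attached to a semilinear map out of `M_{f y}`. -/
def lift {M : Mod R} (g : St M (f y) →+ Q)
    (hg : ∀ (r : StO R (f y)) (t : St M (f y)), g (r • t) = stR φ y r • g t) :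
    St (L.obj M) y →ₗ[StO R1 y] Q :=
  ofSky (lft adj (toPushSky φ g hg))

theorem lift_can {M : Mod R} (g : St M (f y) →+ Q)
    (hg : ∀ (r : StO R (f y)) (t : St M (f y)), g (r • t) = stR φ y r • g t) (t : St M (f y)) :
    lift adj g hg (can adj M y t) = g t := by
  obtain ⟨V, hV, s, rfl⟩ := exists_gm M (f y) t
  rw [can_gm, lift, ofSky_gm, app_lft_us, val_app_toPushSky]

theorem lift_unique {M : Mod R} (g₁ g₂ : St (L.obj M) y →ₗ[StO R1 y] Q)
    (h : ∀ t, g₁ (can adj M y t) = g₂ (can adj M y t)) : g₁ = g₂ := by
  have key : toSky g₁ = toSky g₂ := hom_ext_us adj fun V m => ext_val fun hy => by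
    rw [val_app_toSky, val_app_toSky]
    have := h (gm M (f y) V hy m)
    rwa [can_gm] at this
  rw [← ofSky_toSky g₁, ← ofSky_toSky g₂, key]

end Universal

/-- The image of the canonical map generates the stalk of the inverse image. -/
theorem span_range_can (M : Mod R) (y : T1) :
    Submodule.span (StO R1 y) (Set.range (can adj M y)) = ⊤ := by
  let S := Submodule.span (StO R1 y) (Set.range (can adj M y))
  have h : S.mkQ = 0 := lift_unique adj _ _ fun t => by
    rw [LinearMap.zero_apply, Submodule.mkQ_apply, Submodule.Quotient.mk_eq_zero]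
    exact Submodule.subset_span ⟨t, rfl⟩
  exact (Submodule.ker_mkQ S).symm.trans (by rw [h, LinearMap.ker_zero])

section BaseChange

open TensorProduct

variable (φ) in
/-- `R1_y` as an algebra over `R_{f y}` (reducible definition, to be used with `letI`). -/
abbrev stAlg (y : T1) : Algebra (StO R (f y)) (StO R1 y) := (stR φ y).toAlgebra

variable (φ) in
/-- A module over `R1_y` as a module over `R_{f y}`. -/
abbrev modOver (N : Mod R1) (y : T1) : Module (StO R (f y)) (St N y) :=
  Module.compHom (St N y) (stR φ y)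

variable (φ) in
theorem isScalarTower (N : Mod R1) (y : T1) :
    letI := stAlg φ y
    letI := modOver φ N y
    IsScalarTower (StO R (f y)) (StO R1 y) (St N y) := by
  letI := stAlg φ y
  letI := modOver φ N y
  refine ⟨fun r a m => ?_⟩
  rw [Algebra.smul_def, mul_smul]
  rfl

/-- The canonical map `M_{f y} → (L M)_y`, linear over `R_{f y}`. -/
def canₗ (M : Mod R) (y : T1) :
    letI := modOver φ (L.obj M) y
    St M (f y) →ₗ[StO R (f y)] St (L.obj M) y :=
  letI := modOver φ (L.obj M) y
  { toFun := can adj M y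
    map_add' := map_add _
    map_smul' := can_smul adj M y }

/-- The stalk of the inverse image is the base change of the stalk. -/
theorem isBaseChange_can (M : Mod R) (y : T1) :
    letI := stAlg φ y
    letI := modOver φ (L.obj M) y
    haveI := isScalarTower φ (L.obj M) y
    IsBaseChange (StO R1 y) (canₗ adj M y) := by
  letI := stAlg φ y
  letI := modOver φ (L.obj M) y
  haveI := isScalarTower φ (L.obj M) y
  apply IsBaseChange.of_lift_unique
  intro Q _ _ _ _ g
  letI : AddCommGroup Q := Module.addCommMonoidToAddCommGroup (StO R1 y)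
  have hg : ∀ (r : StO R (f y)) (t : St M (f y)), g (r • t) = stR φ y r • g t := by
    intro r t
    rw [g.map_smul]
    exact (algebraMap_smul (StO R1 y) r (g t)).symm
  refine ⟨lift adj g.toAddMonoidHom hg, ?_, ?_⟩
  · ext t
    exact lift_can adj g.toAddMonoidHom hg t
  · intro g' hg'
    refine lift_unique adj _ _ fun t => ?_
    exact (LinearMap.congr_fun hg' t).trans (lift_can adj g.toAddMonoidHom hg t).symm

/-- The stalk of the inverse image as a tensor product. -/
def stEquiv (M : Mod R) (y : T1) :
    letI := stAlg φ y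
    (StO R1 y ⊗[StO R (f y)] St M (f y)) ≃ₗ[StO R1 y] St (L.obj M) y :=
  letI := stAlg φ y
  letI := modOver φ (L.obj M) y
  haveI := isScalarTower φ (L.obj M) y
  (isBaseChange_can adj M y).equiv

theorem stEquiv_tmul (M : Mod R) (y : T1) (a : StO R1 y) (m : St M (f y)) :
    letI := stAlg φ y
    stEquiv adj M y (a ⊗ₜ[StO R (f y)] m) = a • can adj M y m :=
  letI := stAlg φ y
  letI := modOver φ (L.obj M) y
  haveI := isScalarTower φ (L.obj M) y
  (isBaseChange_can adj M y).equiv_tmul a m

theorem stMap_stEquiv {M N : Mod R} (g : M ⟶ N) (y : T1) :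
    letI := stAlg φ y
    ∀ t : StO R1 y ⊗[StO R (f y)] St M (f y),
      stMap (L.map g) y (stEquiv adj M y t) =
        stEquiv adj N y ((stMap g (f y)).lTensor (StO R1 y) t) := by
  letI := stAlg φ y
  intro t
  induction t with
  | zero => simp
  | add a b ha hb => rw [map_add, map_add, map_add, map_add, ha, hb]
  | tmul a m =>
    rw [LinearMap.lTensor_tmul, stEquiv_tmul, stEquiv_tmul, map_smul, stMap_can]

include adj in
/-- If `R_{f y} → R1_y` is flat, then `L` preserves injectivity on the stalks at `y`. -/
theorem stMap_injective_of_flat {M N : Mod R} (g : M ⟶ N) (y : T1) (hfl : (stR φ y).Flat)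
    (h : Function.Injective (stMap g (f y))) : Function.Injective (stMap (L.map g) y) := by
  letI := stAlg φ y
  haveI : Module.Flat (StO R (f y)) (StO R1 y) := hfl
  have h1 : Function.Injective ((stMap g (f y)).lTensor (StO R1 y)) :=
    Module.Flat.lTensor_preserves_injective_linearMap _ h
  intro a b hab
  obtain ⟨a, rfl⟩ := (stEquiv adj M y).surjective a
  obtain ⟨b, rfl⟩ := (stEquiv adj M y).surjective b
  rw [stMap_stEquiv, stMap_stEquiv] at hab
  rw [h1 ((stEquiv adj N y).injective hab)]

end BaseChange

end Groth.Agent.Gaga.H986.Pull
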