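import Groth.Agent.Gaga.H986.Stalk

/-!
# Skyscraper modules

`sky x Q : Mod R` for a module `Q` over the stalk `StO R x`; morphisms `M ⟶ sky x Q` are the linear
maps `St M x →ₗ Q`.
-/

set_option autoImplicit false

open CategoryTheory TopologicalSpace Opposite

noncomputable section

namespace Groth.Agent.Gaga.H986.Sky

open Groth.Agent.Gaga.H975.ModSec Groth.Agent.Gaga.H986.Stalk

variable {T : TopCat.{0}} {R : TopCat.Sheaf CommRingCat.{0} T}
variable (x : T) (Q : Type) [AddCommGroup Q] [Module (StO R x) Q]

/-- Sections over `V` of the skyscraper module. -/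
def SSec (V : Opens T) : Type := PLift (x ∈ V) → Q

instance (V : Opens T) : AddCommGroup (SSec x Q V) :=
  inferInstanceAs (AddCommGroup (PLift (x ∈ V) → Q))

instance (V : Opens T) : Module (O R V) (SSec x Q V) where
  smul r s := fun h => gmO R x V h.down r • s h
  one_smul s := by
    funext h
    change gmO R x V h.down 1 • s h = s h
    rw [map_one, one_smul]
  mul_smul r r' s := by
    funext h
    change gmO R x V h.down (r * r') • s h = gmO R x V h.down r • gmO R x V h.down r' • s h
    rw [map_mul, mul_smul]
  smul_zero r := by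
    funext h
    change gmO R x V h.down r • (0 : Q) = 0
    rw [smul_zero]
  smul_add r s t := by
    funext h
    change gmO R x V h.down r • (s h + t h) = gmO R x V h.down r • s h + gmO R x V h.down r • t h
    rw [smul_add]
  add_smul r r' s := by
    funext h
    change gmO R x V h.down (r + r') • s h = gmO R x V h.down r • s h + gmO R x V h.down r' • s h
    rw [map_add, add_smul]
  zero_smul s := by
    funext h
    change gmO R x V h.down 0 • s h = 0
    rw [map_zero, zero_smul]

variable (R) in
/-- The data of the skyscraper module. -/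
def skyData : Data R where
  S V := SSec x Q V
  r h := { toFun := fun s h' => s ⟨h h'.down⟩, map_zero' := rfl, map_add' := fun _ _ => rfl }
  r_self _ _ := rfl
  r_r _ _ _ := rfl
  r_smul {V W} h a s := by
    funext h'
    change gmO R x V (h h'.down) a • s ⟨h h'.down⟩ = gmO R x W h'.down (resO h a) • s ⟨h h'.down⟩
    rw [gmO_resO]
  ext U s t h := by
    funext h'
    obtain ⟨i, hi⟩ := Opens.mem_iSup.mp h'.down
    exact congrFun (h i) ⟨hi⟩
  glue {ι} U s hs := by
    have key : ∀ (i j : ι) (hi : x ∈ U i) (hj : x ∈ U j), s i ⟨hi⟩ = s j ⟨hj⟩ := fun i j hi hj =>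
      congrFun (hs i j) ⟨⟨hi, hj⟩⟩
    refine ⟨fun h => s (Opens.mem_iSup.mp h.down).choose ⟨(Opens.mem_iSup.mp h.down).choose_spec⟩,
      fun i => ?_⟩
    funext h
    exact key _ _ _ h.down

variable (R) in
/-- The skyscraper module. -/
def sky : Mod R := (skyData R x Q).toMod

variable {x Q}

/-- Value of a section of the skyscraper module. -/
def val {V : Opens T} (hx : x ∈ V) : Sec (sky R x Q) V →+ Q where
  toFun s := (show SSec x Q V from s) ⟨hx⟩
  map_zero' := rfl
  map_add' _ _ := rfl

theorem val_smul {V : Opens T} (hx : x ∈ V) (r : O R V) (s : Sec (sky R x Q) V) :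
    val hx (r • s) = gmO R x V hx r • val hx s := rfl

theorem val_res {V W : Opens T} (h : W ≤ V) (hx : x ∈ W) (s : Sec (sky R x Q) V) :
    val hx (res _ h s) = val (h hx) s := rfl

theorem ext_val {V : Opens T} {s t : Sec (sky R x Q) V} (h : ∀ hx : x ∈ V, val hx s = val hx t) :
    s = t :=
  (funext fun h' => h h'.down : (show SSec x Q V from s) = (show SSec x Q V from t))

/-- The linear map out of the stalk attached to a morphism to the skyscraper. -/
def ofSky {M : Mod R} (g : M ⟶ sky R x Q) : St M x →ₗ[StO R x] Q :=
  desc M x Q (fun V hx => (val hx).comp (app g V).toAddMonoidHom)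
    (fun V W h hx s => by
      change val hx (app g W (res M h s)) = val (h hx) (app g V s)
      rw [app_res, val_res])
    (fun V hx r s => by
      change val hx (app g V (r • s)) = gmO R x V hx r • val hx (app g V s)
      rw [map_smul, val_smul])

theorem ofSky_gm {M : Mod R} (g : M ⟶ sky R x Q) (V : Opens T) (hx : x ∈ V) (s : Sec M V) :
    ofSky g (gm M x V hx s) = val hx (app g V s) :=
  desc_gm M x Q _ _ _ V hx s

/-- The morphism to the skyscraper attached to a linear map out of the stalk. -/
def toSky {M : Mod R} (g : St M x →ₗ[StO R x] Q) : M ⟶ sky R x Q :=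
  homMk (fun V => (AddMonoidHom.mk' (fun s => (fun h => g (gm M x V h.down s) : SSec x Q V))
      (fun a b => funext fun h => by
        change g (gm M x V h.down (a + b)) = g (gm M x V h.down a) + g (gm M x V h.down b)
        rw [map_add, map_add]) : Sec M V →+ SSec x Q V))
    (fun V r m => ext_val fun hx => by
      change g (gm M x V hx (r • m)) = gmO R x V hx r • g (gm M x V hx m)
      rw [gm_smul, map_smul])
    (fun V W h m => ext_val fun hx => by
      change g (gm M x W hx (res M h m)) = g (gm M x V (h hx) m)
      rw [gm_res])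

theorem val_app_toSky {M : Mod R} (g : St M x →ₗ[StO R x] Q) (V : Opens T) (hx : x ∈ V)
    (s : Sec M V) : val hx (app (toSky g) V s) = g (gm M x V hx s) := rfl

theorem ofSky_toSky {M : Mod R} (g : St M x →ₗ[StO R x] Q) : ofSky (toSky g) = g :=
  linHom_ext fun V hx s => by rw [ofSky_gm, val_app_toSky]

theorem toSky_ofSky {M : Mod R} (g : M ⟶ sky R x Q) : toSky (ofSky g) = g :=
  hom_ext fun V s => ext_val fun hx => by rw [val_app_toSky, ofSky_gm]

end Groth.Agent.Gaga.H986.Sky
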